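import Groth.Agent.H7Flat.ImpurityRebase
import Groth.Agent.H7Flat.ImpurityBaseChange
import Groth.Prelude.Def_Hensel

/-!
# Impurities localise at the prime of the base
-/

set_option autoImplicit false
set_option linter.style.haveILetI false
universe u

open IsLocalRing TensorProduct

namespace Groth.Agent.H8Props.PureNoeth

theorem exists_algHom {A A' : Type u} [CommRing A] [CommRing A'] [Algebra A A'] (p : Ideal A)
    [p.IsPrime] (t : Ideal A') [t.IsPrime] [ht : t.LiesOver p] :
    ∃ ψ : Localization.AtPrime p →ₐ[A] Localization.AtPrime t,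
      (maximalIdeal (Localization.AtPrime t)).comap ψ.toRingHom = maximalIdeal (Localization.AtPrime p) := by
  let φ := Localization.localRingHom p t (algebraMap A A') ht.over
  refine ⟨⟨φ, fun a => ?_⟩, ?_⟩
  · exact (Localization.localRingHom_to_map p t (algebraMap A A') ht.over a).trans
      (IsScalarTower.algebraMap_apply A A' (Localization.AtPrime t) a).symm
  · haveI : IsLocalHom φ := Localization.isLocalHom_localRingHom _ _ _ ht.over
    exact IsLocalRing.maximalIdeal_comap φ

/-- Every impurity above `p` gives one of the base change to `A_p`. -/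
theorem hasImpurity_localization {A B : Type u} [CommRing A] [CommRing B] [Algebra A B]
    [Algebra.FiniteType A B] {N : Type u} [AddCommGroup N] [Module B N] {p : Ideal A} [p.IsPrime]
    {A' B' N' : Type u} [CommRing A'] [CommRing B'] [Algebra A A'] [Algebra B B'] [Algebra A' B']
    [Algebra A B'] [IsScalarTower A B B'] [IsScalarTower A A' B'] [AddCommGroup N'] [Module B' N']
    [Module B N'] [IsScalarTower B B' N'] [Module A' N'] [IsScalarTower A' B' N'] {g : N →ₗ[B] N'}
    {t' t : Ideal A'} [t'.IsPrime] [t.IsPrime] {P : Ideal B'} [P.IsPrime]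
    (himp : FlatCA.IsImpurity A B N p A' B' N' g t' t P) {Bp Np : Type u} [CommRing Bp]
    [Algebra B Bp] [Algebra (Localization.AtPrime p) Bp] [Algebra A Bp] [IsScalarTower A B Bp]
    [IsScalarTower A (Localization.AtPrime p) Bp]
    [Algebra.IsPushout A B (Localization.AtPrime p) Bp]
    [AddCommGroup Np] [Module Bp Np] [Module B Np] [IsScalarTower B Bp Np] {f : N →ₗ[B] Np}
    (hf : IsBaseChange Bp f) :
    FlatCA.HasImpurity (Localization.AtPrime p) Bp Np (maximalIdeal (Localization.AtPrime p))
      (fun _ _ _ _ => True) := by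
  obtain ⟨hpush, hbc, htt, htp, hPt', hass, hnone⟩ := id himp
  haveI := htp
  have hdisj : Disjoint (t.primeCompl : Set A') ↑t' := Set.disjoint_left.2 fun x hx hx' => hx (htt hx')
  haveI : (t'.map (algebraMap A' (Localization.AtPrime t))).IsPrime :=
    IsLocalization.isPrime_of_isPrime_disjoint t.primeCompl _ t' inferInstance hdisj
  haveI : (t'.map (algebraMap A' (Localization.AtPrime t))).LiesOver t' :=
    ⟨(IsLocalization.under_map_of_isPrime_disjoint t.primeCompl _ inferInstance hdisj).symm⟩
  haveI : (maximalIdeal (Localization.AtPrime t)).LiesOver t :=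
    ⟨(Localization.AtPrime.under_maximalIdeal (I := t)).symm⟩
  refine Groth.Agent.H7Flat.ImpurityRebase.hasImpurity_extend hf _ (fun _ _ _ _ => True)
    (Groth.Agent.H7Flat.ImpurityBaseChange.hasImpurity_baseChange himp (Localization.AtPrime t)
      (t'.map (algebraMap A' (Localization.AtPrime t))) (maximalIdeal _)
      (IsLocalRing.le_maximalIdeal (Ideal.IsPrime.ne_top inferInstance)) _ ?_)
  obtain ⟨ψ, hψ⟩ := exists_algHom p t
  exact ⟨ψ, hψ, trivial⟩

/-- A henselization of the localization of a local ring at its maximal ideal is a henselization. -/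
theorem isHenselization_of_atPrime (R S : Type u) [CommRing R] [IsLocalRing R] [CommRing S]
    [IsLocalRing S] [Algebra R S] [Algebra (Localization.AtPrime (maximalIdeal R)) S]
    [IsScalarTower R (Localization.AtPrime (maximalIdeal R)) S]
    [IsLocalHom (algebraMap (Localization.AtPrime (maximalIdeal R)) S)]
    [hH : Hensel.IsHenselization (Localization.AtPrime (maximalIdeal R)) S] :
    ∃ _ : IsLocalHom (algebraMap R S), Hensel.IsHenselization R S := by
  let e : R ≃ₐ[R] Localization.AtPrime (maximalIdeal R) :=
    IsLocalization.atUnits R (maximalIdeal R).primeCompl fun x hx => IsLocalRing.notMem_maximalIdeal.1 hx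
  have he : ∀ a, e a = algebraMap R (Localization.AtPrime (maximalIdeal R)) a := fun a => e.commutes a
  have hcomp : ∀ a, algebraMap R S a = algebraMap (Localization.AtPrime (maximalIdeal R)) S (e a) :=
    fun a => by rw [he, ← IsScalarTower.algebraMap_apply]
  haveI hl : IsLocalHom (algebraMap R S) := ⟨fun a ha => by
    rw [hcomp] at ha
    exact (isUnit_map_iff e a).1
      (IsLocalHom.map_nonunit (f := algebraMap (Localization.AtPrime (maximalIdeal R)) S) (e a) ha)⟩
  refine ⟨hl, hH.henselian, ?_⟩
  intro T _ _ f hfl
  have hfl' : IsLocalHom (f.comp e.symm.toRingEquiv.toRingHom) := ⟨fun a ha =>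
    (isUnit_map_iff e.symm a).1 (IsLocalHom.map_nonunit (f := f) (e.symm a) ha)⟩
  obtain ⟨G, hG, huniq⟩ := hH.universal T (f.comp e.symm.toRingEquiv.toRingHom) hfl'
  refine ⟨G, RingHom.ext fun a => ?_, fun G' hG' => huniq G' (RingHom.ext fun a => ?_)⟩
  · have := RingHom.congr_fun hG (e a)
    rw [RingHom.comp_apply, hcomp]
    exact this.trans (congrArg f (e.symm_apply_apply a))
  · have := RingHom.congr_fun hG' (e.symm a)
    rw [RingHom.comp_apply, hcomp, AlgEquiv.apply_symm_apply] at this
    exact this

end Groth.Agent.H8Props.PureNoeth
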